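import Cfsg.Agent.H559.SR.Poly

/-!
# TEAM SR, SR-G1b: cyclic pieces for a self-reciprocal `f ≠ X ∓ 1` (helper559, market task 3839)
-/

set_option autoImplicit false

namespace Cfsg.Agent.H559.SR

open Polynomial Module Cfsg.Agent.H721.SR

variable {F V : Type*} [Field F] [AddCommGroup V] [Module F V]

theorem pow_dvd_reverse {f : F[X]} (hr : f ∣ f.reverse) (n : ℕ) : f ^ n ∣ (f ^ n).reverse := by
  induction n with
  | zero => rw [pow_zero]; exact one_dvd _
  | succ n ih =>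
    rw [pow_succ, reverse_mul_of_domain]
    exact mul_dvd_mul ih hr

theorem reverse_pow_dvd {f : F[X]} (hr : f.reverse ∣ f) (n : ℕ) : (f ^ n).reverse ∣ f ^ n := by
  induction n with
  | zero => rw [pow_zero, ← C_1, reverse_C]
  | succ n ih =>
    rw [pow_succ, reverse_mul_of_domain]
    exact mul_dvd_mul ih hr

/-- the primary component of a self-reciprocal `f` is nondegenerate -/
theorem primary_nd {B : V →ₗ[F] V →ₗ[F] F} {ε : F} {g : V ≃ₗ[F] V} (hS : St B ε g) {f m : F[X]} {k : ℕ}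
    (hf : Irreducible f) (hr : f ∣ f.reverse) (hm : ¬ f ∣ m) (hz : ∀ x, ev g (f ^ (k + 1) * m) x = 0)
    {u : V} (hu : ev g (f ^ (k + 1)) u = 0) (h : ∀ w, ev g (f ^ (k + 1)) w = 0 → B u w = 0) : u = 0 := by
  obtain ⟨a, b, hab⟩ := (((hf.coprime_iff_not_dvd).2 hm).pow_left : IsCoprime (f ^ (k + 1)) m)
  refine hS.nondeg u fun y => ?_
  have e : y = ev g (a * f ^ (k + 1)) y + ev g (b * m) y := by
    rw [← ev_add, hab, ev_one]
  have h1 : B u (ev g (b * m) y) = 0 := by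
    apply h
    rw [← ev_mul, show f ^ (k + 1) * (b * m) = b * (f ^ (k + 1) * m) by ring, ev_mul, hz, map_zero]
  have h2 : B u (ev g (a * f ^ (k + 1)) y) = 0 := by
    rw [hS.symm, adj hS.isom, ev_mul, ev_inv_eq_zero' (pow_dvd_reverse hr _) hu, map_zero, map_zero, mul_zero]
  rw [e, map_add, h1, h2, add_zero]

/-- `B` is nondegenerate on `cyc g v` if `B (a(g) f(g)^k v) v ≠ 0` for some `a` -/
theorem ndOn_of [FiniteDimensional F V] {B : V →ₗ[F] V →ₗ[F] F} {ε : F} {g : V ≃ₗ[F] V} (hS : St B ε g) {f : F[X]}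
    {k : ℕ} (hf : Irreducible f) {v : V} (h0 : ev g (f ^ (k + 1)) v = 0) {a : F[X]}
    (ha : B (ev g (a * f ^ k) v) v ≠ 0) : NdOn B (cyc g v) := by
  classical
  intro x hx hB
  obtain ⟨p, rfl⟩ := mem_cyc_iff.1 hx
  by_contra hne
  obtain ⟨j, hj, hj'⟩ := (dvd_prime_pow hf.prime _).1 (EuclideanDomain.gcd_dvd_right p (f ^ (k + 1)))
  have hjk : j ≤ k := by
    by_contra hc
    have h3 : j = k + 1 := by omega
    subst h3
    exact hne (ev_dvd (hj'.symm.dvd.trans (EuclideanDomain.gcd_dvd_left _ _)) h0)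
  obtain ⟨r, hr⟩ := hj'.dvd
  rw [EuclideanDomain.gcd_eq_gcd_ab] at hr
  apply ha
  have e : a * f ^ k = (a * f ^ (k - j) * r * EuclideanDomain.gcdA p (f ^ (k + 1))) * p +
      (a * f ^ (k - j) * r * EuclideanDomain.gcdB p (f ^ (k + 1))) * f ^ (k + 1) := by
    have e1 : f ^ k = f ^ (k - j) * f ^ j := by rw [← pow_add]; congr 1; omega
    rw [e1, hr]
    ring
  rw [e, ev_add, ev_mul, ev_mul _ _ (f ^ (k + 1)), h0, map_zero, add_zero, adj hS.isom]
  exact hB _ (ev_inv_mem_cyc g v _)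

/-- **SR-G1b** -/
theorem exists_cpiece [FiniteDimensional F V] {B : V →ₗ[F] V →ₗ[F] F} {ε : F} {g : V ≃ₗ[F] V} (hS : St B ε g)
    {f : F[X]} (hf : Irreducible f) (hd : f ∣ minpoly F (g : V →ₗ[F] V)) (hr : Associated f f.reverse)
    (h1 : ¬ Associated f (X - 1)) (h2 : ¬ Associated f (X + 1)) : ∃ k v, CPiece B g f k v := by
  obtain ⟨k, m, hm, hz, v0, hv0, hv1⟩ := exists_top g hf hd
  by_contra hcon
  push Not at hcon
  have key : ∀ v, ev g (f ^ (k + 1)) v = 0 → ∀ a : F[X], B (ev g (a * f ^ k) v) v = 0 := by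
    intro v hv a
    by_contra hne
    have hk : ev g (f ^ k) v ≠ 0 := by
      intro h
      apply hne
      rw [ev_mul, h, map_zero, map_zero, LinearMap.zero_apply]
    exact hcon (k + 1) v ⟨hf, Nat.succ_pos k, ann_of hf hv hk, ndOn_of hS hf hv hne⟩
  have hfi : ∀ u, ev g (f ^ (k + 1)) u = 0 → ev g⁻¹ (f ^ (k + 1)) u = 0 := fun u hu =>
    ev_inv_eq_zero' (pow_dvd_reverse hr.dvd _) hu
  -- the polarised identity
  have pol : ∀ u, ev g (f ^ (k + 1)) u = 0 → ∀ a : F[X],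
      ev g (a * f ^ k) u = -(ε • ev g⁻¹ (a * f ^ k) u) := by
    intro u hu a
    rw [← add_eq_zero_iff_eq_neg]
    refine primary_nd hS hf hr.dvd hm hz ?_ ?_
    · rw [map_add, map_smul, ev_comm g (f ^ (k + 1)), hu, map_zero, zero_add]
      have h3 : ev g (f ^ (k + 1)) (ev g⁻¹ (a * f ^ k) u) = 0 := by
        refine ev_inv_eq_zero (reverse_pow_dvd hr.symm.dvd _) ?_
        rw [ev_comm, hfi u hu, map_zero]
      rw [h3, smul_zero]
    · intro w hw
      have h3 := key (u + w) (by rw [map_add, hu, hw, add_zero]) a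
      rw [map_add, map_add, map_add, LinearMap.add_apply, LinearMap.add_apply, key u hu a, key w hw a, zero_add,
        add_zero] at h3
      rw [map_add, LinearMap.add_apply, map_smul, LinearMap.smul_apply, smul_eq_mul, ← hS.symm, ← adj hS.isom]
      rw [add_comm]
      exact h3
  have e1 := pol v0 hv0 1
  have e2 := pol v0 hv0 X
  rw [one_mul] at e1
  rw [ev_mul, ev_X, ev_mul g⁻¹, ev_X] at e2
  have e3 : g (ev g (f ^ k) v0) = g⁻¹ (ev g (f ^ k) v0) := by
    rw [e2, e1, map_neg, map_smul]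
  have e4 : ev g ((X ^ 2 - 1) * f ^ k) v0 = 0 := by
    have h5 : g (g (ev g (f ^ k) v0)) = ev g (f ^ k) v0 := by
      rw [e3]
      exact LinearEquiv.apply_symm_apply g _
    rw [ev_mul, ev, map_sub, map_pow, aeval_X, map_one]
    show g (g (ev g (f ^ k) v0)) - ev g (f ^ k) v0 = 0
    rw [h5, sub_self]
  have h6 := (ann_of hf hv0 hv1 _).1 e4
  rw [pow_succ, mul_comm (f ^ k) f] at h6
  have h7 := (mul_dvd_mul_iff_right (pow_ne_zero k hf.ne_zero)).1 h6
  have h8 : (X ^ 2 - 1 : F[X]) = (X - 1) * (X + 1) := by ring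
  rw [h8] at h7
  rcases hf.prime.dvd_or_dvd h7 with h9 | h9
  · refine h1 (hf.associated_of_dvd ?_ h9)
    rw [← C_1]
    exact irreducible_X_sub_C 1
  · refine h2 (hf.associated_of_dvd ?_ h9)
    have : (X + 1 : F[X]) = X - C (-1) := by rw [C_neg, C_1, sub_neg_eq_add]
    rw [this]
    exact irreducible_X_sub_C (-1)

end Cfsg.Agent.H559.SR
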