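import Cfsg.Agent.H306.SR.Cent
import Cfsg.Agent.H836.Main
import Cfsg.Agent.H839.SeventeenMain
import Cfsg.Agent.H843.N23

/-!
# TEAM SR (S4971, S4970), rows `Fi22`, `Fi23`, `Fi24'` (helper559)

An element `x` of order 11 in `Fi22` (`|C(x)| = 22`, `|N(⟨x⟩)| = 110`), of order 23 in `Fi23` (`23`, `253`), of order 23 in
`Fi24` (`46`, `506`) is not real: `2 |C(x)|` does not divide `|N(⟨x⟩)|`.
-/

set_option autoImplicit false

namespace Cfsg.Agent.H559.SR

open Subgroup Cfsg Cfsg.Agent.H721.SR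

/-- an element of odd prime order with `2 |C(x)| ∤ |N(⟨x⟩)|` is not real -/
theorem not_real_of {G : Type*} [Group G] [Finite G] {x : G} {p : ℕ} (hp : p.Prime) (hp2 : p ≠ 2) (hx : orderOf x = p)
    (h : ¬ 2 * Nat.card (centralizer ({x} : Set G)) ∣ Nat.card (normalizer ((zpowers x : Subgroup G) : Set G))) :
    ¬ IsConj x x⁻¹ := by
  intro hc
  refine h (Cfsg.Agent.H306.SR.two_dvd_of_real ?_ hc)
  intro h1
  have h2 : orderOf x ∣ 2 := orderOf_dvd_of_pow_eq_one (by rw [pow_two, h1])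
  rw [hx] at h2
  exact hp2 ((Nat.prime_dvd_prime_iff_eq hp Nat.prime_two).1 h2)

theorem cent_zpowers {G : Type*} [Group G] (x : G) :
    centralizer ((zpowers x : Subgroup G) : Set G) = centralizer ({x} : Set G) := by
  rw [zpowers_eq_closure, centralizer_closure]

/-! ### `Fi22` -/

theorem nrel_fi22 {S : Type*} [Group S] (h : Spor.IsoFi22 S) : NRel S := by
  obtain ⟨e⟩ := h
  have I := Cfsg.Agent.H836.inv_of_iso e
  have hfin : Finite S := I.ctx.finite
  have hp : Fact (Nat.Prime 11) := ⟨by norm_num⟩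
  obtain ⟨x, hx⟩ := exists_prime_orderOf_dvd_card' (G := S) 11 (by rw [I.ctx.card]; norm_num)
  refine ⟨x, not_real_of hp.out (by norm_num) hx ?_⟩
  have h1 := Cfsg.Agent.H836.Main.card_normalizer_eleven I (X := zpowers x) (by rw [Nat.card_zpowers, hx])
  have h2 := I.card_eleven (y := x) (by rw [← hx, pow_orderOf_eq_one])
    (by rintro rfl; rw [orderOf_one] at hx; norm_num at hx)
  rw [h1, h2]
  norm_num

/-! ### `Fi23` -/

theorem nrel_fi23 {S : Type*} [Group S] (h : Spor.IsoFi23 S) : NRel S := by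
  obtain ⟨e⟩ := h
  refine NRel.congr e.symm ?_
  have hp : Fact (Nat.Prime 23) := ⟨by norm_num⟩
  have hfin : Finite Spor.Fi23 := Nat.finite_of_card_ne_zero (by rw [Cfsg.Agent.LThreeFi23.card_G]; norm_num)
  obtain ⟨x, hx⟩ := exists_prime_orderOf_dvd_card' (G := Spor.Fi23) 23 (by rw [Cfsg.Agent.LThreeFi23.card_G]; norm_num)
  refine ⟨x, not_real_of hp.out (by norm_num) hx ?_⟩
  obtain ⟨h1, h2⟩ := Cfsg.Agent.H839.Fi23.twentythree_main (zpowers x) (by rw [Nat.card_zpowers, hx])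
  rw [h1, ← cent_zpowers, h2, Nat.card_zpowers, hx]
  norm_num

/-! ### `Fi24'` -/

theorem nrel_fi24 {S : Type*} [Group S] (h : Spor.IsoFi24' S) : NRel S := by
  obtain ⟨e⟩ := h
  refine NRel.congr e.symm ?_
  have hfin : Finite Spor.Fi24 := Cfsg.Agent.R08.FiTwentyFour.finite_Fi24
  have hord := Cfsg.Agent.H843.D23.order
  have hx : Cfsg.Agent.H843.D23.D.x ∈ commutator Spor.Fi24 :=
    Cfsg.Agent.H843.Fi24N.mem_commutator (by rw [hord]; decide)
  refine ⟨⟨_, hx⟩, not_real_of_map (commutator Spor.Fi24).subtype ?_⟩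
  refine not_real_of (p := 23) (x := Cfsg.Agent.H843.D23.D.x) (by norm_num) (by norm_num) hord ?_
  obtain ⟨h1, h2⟩ := Cfsg.Agent.H843.D23.main
  rw [cent_zpowers] at h2
  rw [h2]
  intro h3
  rw [show Nat.card (normalizer ((zpowers Cfsg.Agent.H843.D23.D.x : Subgroup Spor.Fi24) : Set Spor.Fi24)) = 11 * 46 from h1]
    at h3
  norm_num at h3

/-! ### the rows -/

theorem rr_fi22 {S : Type*} [Group S] (h : Spor.IsoFi22 S) : RR S := .of_nrel (nrel_fi22 h)

theorem rr_fi23 {S : Type*} [Group S] (h : Spor.IsoFi23 S) : RR S := .of_nrel (nrel_fi23 h)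

theorem rr_fi24 {S : Type*} [Group S] (h : Spor.IsoFi24' S) : RR S := .of_nrel (nrel_fi24 h)

end Cfsg.Agent.H559.SR
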