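import Cfsg.Agent.H721.SR.Orth

/-!
# TEAM SR: polynomials in an isometry (helper559)

* `adj` : `B (p(g) x) y = B x (p(g⁻¹) y)`;
* `aeval_inv` : `g ^ deg p * p(g⁻¹) = p.reverse(g)`;
* `mem_cyc_iff` : `cyc g v = F[g] v`;
* `ann_of` : the annihilator of `v` with `f(g)^k v = 0`, `f(g)^(k-1) v ≠ 0`;
* `exists_top` : such a `v` for the exponent `k` of `f` in the minimal polynomial.
-/

set_option autoImplicit false

namespace Cfsg.Agent.H559.SR

open Polynomial Module Cfsg.Agent.H721.SR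

variable {F V : Type*} [Field F] [AddCommGroup V] [Module F V]

/-- `p(g)` -/
noncomputable abbrev ev (g : V ≃ₗ[F] V) (p : F[X]) : V →ₗ[F] V := aeval (g : V →ₗ[F] V) p

theorem ev_mul (g : V ≃ₗ[F] V) (p q : F[X]) (x : V) : ev g (p * q) x = ev g p (ev g q x) := by
  rw [ev, map_mul]
  rfl

theorem ev_comm (g : V ≃ₗ[F] V) (p q : F[X]) (x : V) : ev g p (ev g q x) = ev g q (ev g p x) := by
  rw [← ev_mul, ← ev_mul, mul_comm]

theorem ev_add (g : V ≃ₗ[F] V) (p q : F[X]) (x : V) : ev g (p + q) x = ev g p x + ev g q x := by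
  rw [ev, map_add]
  rfl

theorem ev_one (g : V ≃ₗ[F] V) (x : V) : ev g 1 x = x := by
  rw [ev, map_one]
  rfl

theorem ev_zero (g : V ≃ₗ[F] V) (x : V) : ev g 0 x = 0 := by
  rw [ev, map_zero]
  rfl

theorem ev_X (g : V ≃ₗ[F] V) (x : V) : ev g X x = g x := by
  rw [ev, aeval_X]
  rfl

theorem ev_C (g : V ≃ₗ[F] V) (c : F) (x : V) : ev g (C c) x = c • x := by
  rw [ev, aeval_C]
  rfl

theorem ev_dvd {g : V ≃ₗ[F] V} {p q : F[X]} (h : p ∣ q) {x : V} (hx : ev g p x = 0) : ev g q x = 0 := by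
  obtain ⟨r, rfl⟩ := h
  rw [mul_comm, ev_mul, hx, map_zero]

/-- the adjoint of `p(g)` -/
theorem adj {B : V →ₗ[F] V →ₗ[F] F} {g : V ≃ₗ[F] V} (h : ∀ x y, B (g x) (g y) = B x y) (p : F[X]) (x y : V) :
    B (ev g p x) y = B x (ev g⁻¹ p y) := by
  have h1 : ∀ x y, B (g x) y = B x (g⁻¹ y) := by
    intro x y
    rw [← h x (g⁻¹ y)]
    congr 1
    exact (LinearEquiv.apply_symm_apply g y).symm
  induction p using Polynomial.induction_on generalizing x y with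
  | C a => rw [ev_C, ev_C, map_smul, map_smul, LinearMap.smul_apply]
  | add p q hp hq => rw [ev_add, ev_add, map_add, map_add, LinearMap.add_apply, hp, hq]
  | monomial n a ih =>
    have e : (C a * X ^ (n + 1) : F[X]) = C a * X ^ n * X := by rw [pow_succ, mul_assoc]
    have e2 : ev g⁻¹ (C a * X ^ n * X) y = g⁻¹ (ev g⁻¹ (C a * X ^ n) y) := by
      rw [mul_comm _ X, ev_mul g⁻¹ X, ev_X]
    rw [e, e2, ev_mul, ev_X, ih, h1]

theorem ev_pow (g : V ≃ₗ[F] V) (n : ℕ) (x : V) : ev g (X ^ n) x = (g ^ n) x := by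
  induction n generalizing x with
  | zero => rw [pow_zero, pow_zero, ev_one]; rfl
  | succ n ih =>
    rw [pow_succ, pow_succ, ev_mul, ev_X, ih]
    rfl

/-- `p(g)` as a sum -/
theorem ev_eq_sum (g : V ≃ₗ[F] V) (p : F[X]) {n : ℕ} (hn : p.natDegree < n) (x : V) :
    ev g p x = ∑ i ∈ Finset.range n, p.coeff i • (g ^ i) x := by
  rw [ev, aeval_eq_sum_range' hn, LinearMap.sum_apply]
  refine Finset.sum_congr rfl fun i _ => ?_
  rw [LinearMap.smul_apply]
  congr 1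
  rw [← ev_pow, ev, map_pow, aeval_X]

/-- the reverse polynomial -/
theorem ev_reverse (g : V ≃ₗ[F] V) (p : F[X]) (x : V) :
    (g ^ p.natDegree) (ev g⁻¹ p x) = ev g p.reverse x := by
  rw [ev_eq_sum g⁻¹ p (Nat.lt_succ_self _), ev_eq_sum g p.reverse (n := p.natDegree + 1)
    (lt_of_le_of_lt (reverse_natDegree_le p) (Nat.lt_succ_self _)), map_sum,
    ← Finset.sum_range_reflect]
  refine Finset.sum_congr rfl fun i hi => ?_
  have hi : i ≤ p.natDegree := Nat.lt_succ_iff.1 (Finset.mem_range.1 hi)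
  have e1 : p.natDegree.succ - 1 - i = p.natDegree - i := by omega
  rw [e1, map_smul, coeff_reverse, revAt_le hi]
  congr 1
  have e2 : g ^ p.natDegree = g ^ i * g ^ (p.natDegree - i) := by rw [← pow_add]; congr 1; omega
  rw [e2, inv_pow]
  show (g ^ i) ((g ^ (p.natDegree - i)) ((g ^ (p.natDegree - i))⁻¹ x)) = (g ^ i) x
  congr 1
  exact LinearEquiv.apply_symm_apply _ x

/-- a self-reciprocal polynomial kills the same vectors at `g` and `g⁻¹` -/
theorem ev_inv_eq_zero {g : V ≃ₗ[F] V} {p : F[X]} (hp : p.reverse ∣ p) {x : V}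
    (hx : ev g⁻¹ p x = 0) : ev g p x = 0 := by
  have h1 := ev_reverse g p x
  rw [hx, map_zero] at h1
  exact ev_dvd hp h1.symm

theorem ev_inv_eq_zero' {g : V ≃ₗ[F] V} {p : F[X]} (hp : p ∣ p.reverse) {x : V}
    (hx : ev g p x = 0) : ev g⁻¹ p x = 0 := by
  have h1 := ev_reverse g p x
  rw [ev_dvd hp hx] at h1
  exact (LinearEquiv.map_eq_zero_iff _).1 h1

/-- the cyclic subspace -/
noncomputable def cy (g : V ≃ₗ[F] V) (v : V) : Submodule F V where
  carrier := {x | ∃ p : F[X], ev g p v = x}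
  zero_mem' := ⟨0, ev_zero g v⟩
  add_mem' := by
    rintro _ _ ⟨p, rfl⟩ ⟨q, rfl⟩
    exact ⟨p + q, ev_add g p q v⟩
  smul_mem' := by
    rintro c _ ⟨p, rfl⟩
    exact ⟨C c * p, by rw [ev_mul, ev_C]⟩

theorem mem_cy {g : V ≃ₗ[F] V} {v x : V} : x ∈ cy g v ↔ ∃ p : F[X], ev g p v = x := Iff.rfl

theorem self_mem_cy (g : V ≃ₗ[F] V) (v : V) : v ∈ cy g v := ⟨1, ev_one g v⟩

theorem map_cy_le (g : V ≃ₗ[F] V) (v : V) : (cy g v).map (g : V →ₗ[F] V) ≤ cy g v := by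
  rintro _ ⟨_, ⟨p, rfl⟩, rfl⟩
  exact ⟨X * p, by rw [ev_mul, ev_X]; rfl⟩

variable [FiniteDimensional F V]

theorem map_cy (g : V ≃ₗ[F] V) (v : V) : (cy g v).map (g : V →ₗ[F] V) = cy g v :=
  Submodule.eq_of_le_of_finrank_eq (map_cy_le g v) (LinearEquiv.finrank_map_eq g _)

theorem inv_mem_cy {g : V ≃ₗ[F] V} {v x : V} (hx : x ∈ cy g v) : g⁻¹ x ∈ cy g v := by
  rw [← map_cy] at hx
  obtain ⟨y, hy, rfl⟩ := hx
  have : g⁻¹ ((g : V →ₗ[F] V) y) = y := LinearEquiv.symm_apply_apply g y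
  rwa [this]

theorem zpow_mem_cy {g : V ≃ₗ[F] V} {v x : V} (hx : x ∈ cy g v) (i : ℤ) : (g ^ i) x ∈ cy g v := by
  have h1 : ∀ (n : ℕ), ∀ x ∈ cy g v, (g ^ n) x ∈ cy g v := by
    intro n
    induction n with
    | zero => intro x hx; exact hx
    | succ n ih =>
      intro x hx
      rw [pow_succ]
      exact ih _ (map_cy_le g v ⟨x, hx, rfl⟩)
  have h2 : ∀ (n : ℕ), ∀ x ∈ cy g v, (g⁻¹ ^ n) x ∈ cy g v := by
    intro n
    induction n with
    | zero => intro x hx; exact hx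
    | succ n ih =>
      intro x hx
      rw [pow_succ]
      exact ih _ (inv_mem_cy hx)
  rcases Int.eq_nat_or_neg i with ⟨n, rfl | rfl⟩
  · rw [zpow_natCast]
    exact h1 n x hx
  · rw [zpow_neg, zpow_natCast, ← inv_pow]
    exact h2 n x hx

omit [FiniteDimensional F V] in
theorem ev_mem_cyc (g : V ≃ₗ[F] V) (v : V) (p : F[X]) : ev g p v ∈ cyc g v := by
  rw [ev_eq_sum g p (Nat.lt_succ_self _)]
  refine Submodule.sum_mem _ fun i _ => Submodule.smul_mem _ _ (Submodule.subset_span ⟨(i : ℤ), ?_⟩)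
  show (g ^ (i : ℤ)) v = (g ^ i) v
  rw [zpow_natCast]

omit [FiniteDimensional F V] in
theorem ev_inv_mem_cyc (g : V ≃ₗ[F] V) (v : V) (p : F[X]) : ev g⁻¹ p v ∈ cyc g v := by
  rw [ev_eq_sum g⁻¹ p (Nat.lt_succ_self _)]
  refine Submodule.sum_mem _ fun i _ => Submodule.smul_mem _ _ (Submodule.subset_span ⟨-(i : ℤ), ?_⟩)
  show (g ^ (-(i : ℤ))) v = (g⁻¹ ^ i) v
  rw [zpow_neg, zpow_natCast, inv_pow]

/-- **`cyc g v = F[g] v`** -/
theorem cyc_eq (g : V ≃ₗ[F] V) (v : V) : cyc g v = cy g v := by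
  apply le_antisymm
  · unfold cyc
    rw [Submodule.span_le]
    rintro _ ⟨i, rfl⟩
    exact zpow_mem_cy (self_mem_cy g v) i
  · rintro _ ⟨p, rfl⟩
    exact ev_mem_cyc g v p

theorem mem_cyc_iff {g : V ≃ₗ[F] V} {v x : V} : x ∈ cyc g v ↔ ∃ p : F[X], ev g p v = x := by
  rw [cyc_eq, mem_cy]

/-! ### Annihilators -/

omit [FiniteDimensional F V] in
/-- the annihilator of a vector killed by `f^k` and not by `f^(k-1)` -/
theorem ann_of {g : V ≃ₗ[F] V} {f : F[X]} (hf : Irreducible f) {k : ℕ} {v : V} (h0 : ev g (f ^ (k + 1)) v = 0)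
    (h1 : ev g (f ^ k) v ≠ 0) : Ann g v (f ^ (k + 1)) := by
  classical
  intro p
  constructor
  · intro hp
    have hd : ev g (EuclideanDomain.gcd p (f ^ (k + 1))) v = 0 := by
      rw [EuclideanDomain.gcd_eq_gcd_ab, ev_add, mul_comm p, ev_mul, mul_comm (f ^ (k + 1)), ev_mul, h0]
      rw [show ev g p v = 0 from hp, map_zero, map_zero, add_zero]
    obtain ⟨j, hj, hj'⟩ := (dvd_prime_pow hf.prime _).1 (EuclideanDomain.gcd_dvd_right p (f ^ (k + 1)))
    have h2 : ev g (f ^ j) v = 0 := ev_dvd hj'.dvd hd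
    have h3 : j = k + 1 := by
      by_contra hc
      exact h1 (ev_dvd (pow_dvd_pow f (by omega)) h2)
    subst h3
    exact hj'.symm.dvd.trans (EuclideanDomain.gcd_dvd_left _ _)
  · intro hp
    exact ev_dvd hp h0

/-- the exponent of `f` in the minimal polynomial -/
theorem exists_top (g : V ≃ₗ[F] V) {f : F[X]} (hf : Irreducible f) (hd : f ∣ minpoly F (g : V →ₗ[F] V)) :
    ∃ (k : ℕ) (m : F[X]), ¬ f ∣ m ∧ (∀ x, ev g (f ^ (k + 1) * m) x = 0) ∧
      ∃ v, ev g (f ^ (k + 1)) v = 0 ∧ ev g (f ^ k) v ≠ 0 := by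
  have h0 : minpoly F (g : V →ₗ[F] V) ≠ 0 := minpoly.ne_zero (Algebra.IsIntegral.isIntegral _)
  obtain ⟨m, hm, hmf⟩ := (FiniteMultiplicity.of_not_isUnit hf.not_isUnit h0).exists_eq_pow_mul_and_not_dvd
  set n := multiplicity f (minpoly F (g : V →ₗ[F] V)) with hn
  have hn0 : n ≠ 0 := by
    intro h
    rw [h, pow_zero, one_mul] at hm
    exact hmf (hm ▸ hd)
  obtain ⟨k, hk⟩ := Nat.exists_eq_succ_of_ne_zero hn0
  rw [hk] at hm
  have hz : ∀ x, ev g (f ^ (k + 1) * m) x = 0 := by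
    intro x
    have h1 : aeval (g : V →ₗ[F] V) (minpoly F (g : V →ₗ[F] V)) = 0 := minpoly.aeval _ _
    rw [hm] at h1
    rw [ev, h1]
    rfl
  refine ⟨k, m, hmf, hz, ?_⟩
  have h2 : ¬ ∀ x, ev g (f ^ k * m) x = 0 := by
    intro h2
    have h3 : minpoly F (g : V →ₗ[F] V) ∣ f ^ k * m := minpoly.dvd _ _ (LinearMap.ext h2)
    rw [hm] at h3
    have hm0 : m ≠ 0 := by
      rintro rfl
      exact hmf (dvd_zero f)
    have h4 := (mul_dvd_mul_iff_right hm0).1 h3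
    rw [pow_succ] at h4
    have h5 : f ^ k * f ∣ f ^ k * 1 := by rwa [mul_one]
    exact hf.not_isUnit (isUnit_of_dvd_one ((mul_dvd_mul_iff_left (pow_ne_zero k hf.ne_zero)).1 h5))
  push Not at h2
  obtain ⟨x, hx⟩ := h2
  exact ⟨ev g m x, by rw [← ev_mul]; exact hz x, by rwa [← ev_mul]⟩

end Cfsg.Agent.H559.SR
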